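import Mathlib

/-!
Lifting an element of prime order, and the elements normalising its cyclic group, through a homomorphism.
-/

set_option autoImplicit false

namespace Cfsg.Agent.Lib.F4Sections

variable {Γ Q : Type*} [Group Γ] [Finite Γ] [Group Q]

/-- Conjugating into a cyclic subgroup is inherited by the subgroup generated. -/
theorem conj_mem_zpowers_of_closure [Finite Q] {s : Q} {A : Set Q} (hA : ∀ a ∈ A, ∃ k : ℕ, a * s * a⁻¹ = s ^ k)
    {y : Q} (hy : y ∈ Subgroup.closure A) : y * s * y⁻¹ ∈ Subgroup.zpowers s := by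
  rw [← Subgroup.mem_toSubmonoid, Subgroup.closure_toSubmonoid_of_finite] at hy
  induction hy using Submonoid.closure_induction with
  | mem a ha =>
    obtain ⟨k, hk⟩ := hA a ha
    rw [hk]
    exact pow_mem (Subgroup.mem_zpowers s) k
  | one => simp
  | mul a b _ _ ha hb =>
    obtain ⟨k, hk⟩ := hb
    have e : a * b * s * (a * b)⁻¹ = (a * s * a⁻¹) ^ k := by
      rw [conj_zpow, show s ^ k = b * s * b⁻¹ from hk]
      group
    rw [e]
    exact zpow_mem ha k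

/-- A subgroup of `r`-elements over an element of order `r`, with normaliser mapping onto the whole image. -/
theorem exists_pgroup_lift (f : Γ →* Q) {r : ℕ} [Fact r.Prime] {s : Q} (hs : orderOf s = r) (hsr : s ∈ f.range)
    (hnorm : ∀ y ∈ f.range, y * s * y⁻¹ ∈ Subgroup.zpowers s) :
    ∃ S : Subgroup Γ, IsPGroup r S ∧ (∃ a ∈ S, f a = s) ∧ (∀ a ∈ S, f a ∈ Subgroup.zpowers s) ∧
      ∀ y ∈ f.range, ∃ n ∈ Subgroup.normalizer (S : Set Γ), f n = y := by
  classical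
  obtain ⟨s₀, rfl⟩ := hsr
  set Z := Subgroup.zpowers (f s₀) with hZ
  let P₀ : Subgroup Γ := Z.comap f
  haveI : P₀.Normal := ⟨fun x hx g => by
    obtain ⟨k, hk⟩ := (show f x ∈ Z from hx)
    show f (g * x * g⁻¹) ∈ Z
    rw [map_mul, map_mul, map_inv, show f x = f s₀ ^ k from hk.symm, ← conj_zpow]
    exact zpow_mem (hnorm _ ⟨g, rfl⟩) k⟩
  obtain ⟨S⟩ : Nonempty (Sylow r P₀) := inferInstance
  have hfr := Sylow.normalizer_sup_eq_top S
  set S₀ : Subgroup Γ := (S : Subgroup P₀).map P₀.subtype with hS₀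
  obtain ⟨a, haS, hfa⟩ : ∃ a ∈ S₀, f a = f s₀ := by
    let g : P₀ →* Z := (f.comp P₀.subtype).codRestrict Z fun u => u.2
    have hg : Function.Surjective g := by
      rintro ⟨z, k, rfl⟩
      exact ⟨⟨s₀ ^ k, ⟨k, (map_zpow f s₀ k).symm⟩⟩, Subtype.ext (map_zpow f s₀ k)⟩
    haveI : Finite Z := Finite.of_surjective g hg
    have hgS : (S : Subgroup P₀).map g = ⊤ := by
      refine Subgroup.eq_top_of_card_eq _ ?_
      rw [show ((S : Subgroup P₀).map g) = ((S.mapSurjective hg : Sylow r Z) : Subgroup Z) from rfl,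
        (S.mapSurjective hg).card_eq_multiplicity, Nat.card_zpowers, hs,
        Nat.Prime.factorization_self Fact.out, pow_one]
    have : (⟨f s₀, Subgroup.mem_zpowers _⟩ : Z) ∈ (S : Subgroup P₀).map g := by rw [hgS]; trivial
    obtain ⟨u, hu, hue⟩ := this
    exact ⟨(u : Γ), Subgroup.mem_map_of_mem _ hu, congrArg Subtype.val hue⟩
  refine ⟨S₀, S.2.map _, ⟨a, haS, hfa⟩, ?_, ?_⟩
  · rintro _ ⟨u, -, rfl⟩
    exact u.2
  · rintro _ ⟨t, rfl⟩
    have htop : t ∈ (↑(Subgroup.normalizer (S₀ : Set Γ) ⊔ P₀) : Set Γ) := by rw [hfr]; trivial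
    rw [Subgroup.mul_normal] at htop
    obtain ⟨n, hn, x, hx, rfl⟩ := htop
    obtain ⟨k, hk⟩ := (show f x ∈ Z from hx)
    refine ⟨n * a ^ k, mul_mem hn (zpow_mem (Subgroup.le_normalizer haS) k), ?_⟩
    rw [map_mul, map_mul, map_zpow, hfa, show f x = f s₀ ^ k from hk.symm]

/-- Inside an abelian subgroup over `s` an element raised to the power by which `s` is moved. -/
theorem exists_eigen_lift (f : Γ →* Q) {r : ℕ} [Fact r.Prime] {S : Subgroup Γ} (hS : IsPGroup r S)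
    (hab : ∀ a ∈ S, ∀ b ∈ S, a * b = b * a) {s : Q} (hs : s ≠ 1) (ha : ∃ a ∈ S, f a = s)
    (hf : ∀ a ∈ S, f a ∈ Subgroup.zpowers s) {n : Γ} (hn : n ∈ Subgroup.normalizer (S : Set Γ)) {k : ℕ}
    (hk : f n * s * (f n)⁻¹ = s ^ k) : ∃ z ∈ S, orderOf z = r ∧ n * z * n⁻¹ = z ^ k := by
  classical
  have hnS : ∀ a ∈ S, n * a * n⁻¹ ∈ S := fun a ha => (Subgroup.mem_normalizer_iff.1 hn a).1 ha
  let θ : S →* S :=
    { toFun := fun a => ⟨n * a * n⁻¹ * ((a : Γ) ^ k)⁻¹, mul_mem (hnS _ a.2) (inv_mem (pow_mem a.2 k))⟩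
      map_one' := Subtype.ext (by simp)
      map_mul' := fun a b => Subtype.ext (by
        show n * ((a : Γ) * b) * n⁻¹ * (((a : Γ) * b) ^ k)⁻¹ =
          n * a * n⁻¹ * ((a : Γ) ^ k)⁻¹ * (n * b * n⁻¹ * ((b : Γ) ^ k)⁻¹)
        rw [(show Commute (a : Γ) b from hab _ a.2 _ b.2).mul_pow, _root_.mul_inv_rev,
          show n * ((a : Γ) * b) * n⁻¹ = n * a * n⁻¹ * (n * b * n⁻¹) by group]
        rw [hab _ (inv_mem (pow_mem b.2 k)) _ (inv_mem (pow_mem a.2 k)),
          mul_assoc (n * a * n⁻¹), mul_assoc (n * a * n⁻¹), ← mul_assoc (n * b * n⁻¹) _ (_⁻¹),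
          hab _ (hnS _ b.2) _ (inv_mem (pow_mem a.2 k))]
        simp only [mul_assoc]) }
  obtain ⟨a, haS, hfa⟩ := ha
  have hns : ¬ Function.Surjective θ := fun hsur => by
    obtain ⟨b, hb⟩ := hsur ⟨a, haS⟩
    apply hs
    rw [← hfa, show a = n * (b : Γ) * n⁻¹ * ((b : Γ) ^ k)⁻¹ from (congrArg Subtype.val hb).symm]
    obtain ⟨i, hi⟩ := hf _ b.2
    have hi' : f (b : Γ) = s ^ i := hi.symm
    simp only [map_mul, map_inv, map_pow, hi']
    rw [← conj_zpow, hk, ← zpow_natCast, ← zpow_natCast, ← zpow_mul, ← zpow_mul, mul_comm i, mul_inv_cancel]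
  have hni : θ.ker ≠ ⊥ := fun hk' =>
    hns (Finite.injective_iff_surjective.1 ((MonoidHom.ker_eq_bot_iff θ).1 hk'))
  obtain ⟨j, hj0, hj⟩ := ((hS.to_subgroup θ.ker).nontrivial_iff_card).1
    ((Subgroup.nontrivial_iff_ne_bot _).2 hni)
  obtain ⟨z, hz⟩ := exists_prime_orderOf_dvd_card' (G := θ.ker) r (hj ▸ dvd_pow_self r hj0.ne')
  refine ⟨((z : S) : Γ), (z : S).2, ?_, ?_⟩
  · rw [Subgroup.orderOf_coe, Subgroup.orderOf_coe, hz]
  · have := congrArg (fun u : S => (u : Γ)) (MonoidHom.mem_ker.1 z.2)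
    simp only [θ, MonoidHom.coe_mk, OneHom.coe_mk, OneMemClass.coe_one] at this
    exact mul_inv_eq_one.1 this

end Cfsg.Agent.Lib.F4Sections
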