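import Cfsg.Agent.Lib.H59.F4Graph.Setting
import Cfsg.Agent.Lib.H59.F4Graph.Eigen
import Cfsg.Agent.Lib.H59.F4Graph.Pairs

/-!
Subgroups of prime power order in the group of type F4 over a field containing the roots of unity, and the Weyl
elements seen by elements moving torsion elements of the torus.
-/

set_option autoImplicit false

namespace Cfsg.Agent.Lib.F4Sections

open Cfsg.Lie Cfsg.Agent.Lib.Chev Cfsg.Agent.Lib.ChevField Cfsg.Agent.Lib.H59.Homocyclic
  Cfsg.Agent.Lib.H59.F4Graph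
open scoped Matrix

variable {K : Type} [Field K] [Fintype K] {r : ℕ} [Fact r.Prime]

theorem dvd_natCard_sub_one (hK : (Fintype.card K : ZMod r) = 1) : r ∣ Nat.card K - 1 := by
  rw [Nat.card_eq_fintype_card]
  exact dvd_units Fintype.card_pos hK

/-- The subgroups of `r`-elements go into the diagonal subgroup. -/
theorem exists_conj_diag (hr : 5 ≤ r) (hK : (Fintype.card K : ZMod r) = 1)
    (P : Subgroup ↥(chevF4.group K)) (hP : IsPGroup r P) :
    ∃ g : ↥(chevF4.group K), ∀ x ∈ P,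
      ((g * x * g⁻¹ : ↥(chevF4.group K)) : GL chevF4.Idx K) ∈ chevF4.diagonalSubgroup K := by
  obtain ⟨g, -, hg⟩ := exists_conj_le (T := (chevF4.diagonalSubgroup K).subgroupOf (chevF4.group K)) (H := ⊤)
    (P := P) (r := r) le_top le_top hP (factorization_le_diag K hr hK)
  exact ⟨g, fun x hx => hg x hx⟩

/-- The subgroups of `r`-elements are commutative. -/
theorem commute_of_pgroup (hr : 5 ≤ r) (hK : (Fintype.card K : ZMod r) = 1)
    (P : Subgroup ↥(chevF4.group K)) (hP : IsPGroup r P) : ∀ a ∈ P, ∀ b ∈ P, a * b = b * a := by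
  intro a ha b hb
  obtain ⟨g, hg⟩ := exists_conj_diag hr hK P hP
  have h : g * a * g⁻¹ * (g * b * g⁻¹) = g * b * g⁻¹ * (g * a * g⁻¹) :=
    Subtype.ext (rootedF4.diagonal_commute (hg a ha) (hg b hb))
  rwa [show g * a * g⁻¹ * (g * b * g⁻¹) = g * (a * b) * g⁻¹ by group,
    show g * b * g⁻¹ * (g * a * g⁻¹) = g * (b * a) * g⁻¹ by group, mul_left_inj, mul_right_inj] at h

/-- A subgroup of exponent `r` has order at most `r` to the rank. -/
theorem card_exponent_le (hr : 5 ≤ r) (hK : (Fintype.card K : ZMod r) = 1)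
    (V : Subgroup ↥(chevF4.group K)) (hV : ∀ v ∈ V, v ^ r = 1) : Nat.card ↥V ≤ r ^ 4 := by
  have hp : r.Prime := Fact.out
  haveI : NeZero r := ⟨hp.ne_zero⟩
  have hP : IsPGroup r V := fun v => ⟨1, Subtype.ext (by simpa using hV v v.2)⟩
  obtain ⟨g, hg⟩ := exists_conj_diag hr hK V hP
  obtain ⟨z, hz⟩ := exists_zmodHom (dvd_natCard_sub_one hK) (NeZero.pos r)
  obtain ⟨B, hB⟩ := exists_unimodular
  have h1 : ∀ v : V, ∃ lam : Fin chevF4.rank → ZMod r, tor z (Multiplicative.ofAdd (iota chevF4 (ZMod r) lam)) =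
      ((g * v * g⁻¹ : ↥(chevF4.group K)) : GL chevF4.Idx K) := fun v =>
    exists_vec rootedF4 hB hz (hg v v.2) (by
      rw [← SubmonoidClass.coe_pow, conj_pow, hV v v.2, mul_one, mul_inv_cancel, OneMemClass.coe_one])
  choose lam hlam using h1
  have hinj : Function.Injective lam := fun v w e => by
    have h2 := hlam v
    rw [e, hlam w] at h2
    exact Subtype.ext (mul_left_cancel (mul_right_cancel (Subtype.ext h2 :
      g * (w : ↥(chevF4.group K)) * g⁻¹ = g * v * g⁻¹))).symm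
  refine (Nat.card_le_card_of_injective lam hinj).trans ?_
  rw [Nat.card_fun, Nat.card_zmod, Nat.card_fin]
  exact le_of_eq rfl

/-- Commuting elements of orders `r` and `s` go into the diagonal subgroup together. -/
theorem exists_conj_diag_pair {s : ℕ} [Fact s.Prime] (hr : 5 ≤ r) (hs : 5 ≤ s)
    (hKr : (Fintype.card K : ZMod r) = 1) (hKs : (Fintype.card K : ZMod s) = 1) {x y : ↥(chevF4.group K)}
    (hx : orderOf x = r) (hy : orderOf y = s) (hxy : Commute x y) :
    ∃ g : ↥(chevF4.group K),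
      ((g * x * g⁻¹ : ↥(chevF4.group K)) : GL chevF4.Idx K) ∈ chevF4.diagonalSubgroup K ∧
      ((g * y * g⁻¹ : ↥(chevF4.group K)) : GL chevF4.Idx K) ∈ chevF4.diagonalSubgroup K := by
  obtain ⟨g₁, hg₁⟩ := exists_conj_diag hs hKs (Subgroup.zpowers y)
    (IsPGroup.of_card (n := 1) (by rw [Nat.card_zpowers, hy, pow_one]))
  set y₁ := g₁ * y * g₁⁻¹ with hy₁
  set x₁ := g₁ * x * g₁⁻¹ with hx₁
  have hy₁d := hg₁ y (Subgroup.mem_zpowers y)
  obtain ⟨g₂, hg₂H, hg₂⟩ := exists_conj_le (T := (chevF4.diagonalSubgroup K).subgroupOf (chevF4.group K))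
    (H := Subgroup.centralizer ({y₁} : Set ↥(chevF4.group K))) (P := Subgroup.zpowers x₁) (r := r)
    (fun t ht => Subgroup.mem_centralizer_singleton_iff.2 (Subtype.ext (rootedF4.diagonal_commute ht hy₁d)))
    (Subgroup.zpowers_le.2 (Subgroup.mem_centralizer_singleton_iff.2 (hxy.map (MulAut.conj g₁).toMonoidHom).eq))
    (IsPGroup.of_card (n := 1) (by rw [Nat.card_zpowers, hx₁, ← MulAut.conj_apply, MulEquiv.orderOf_eq, hx, pow_one]))
    (factorization_le_diag K hr hKr)
  refine ⟨g₂ * g₁, ?_, ?_⟩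
  · rw [show g₂ * g₁ * x * (g₂ * g₁)⁻¹ = g₂ * x₁ * g₂⁻¹ by rw [hx₁]; group]
    exact hg₂ _ (Subgroup.mem_zpowers x₁)
  · rw [show g₂ * g₁ * y * (g₂ * g₁)⁻¹ = g₂ * y₁ * g₂⁻¹ by rw [hy₁]; group,
      Subgroup.mem_centralizer_singleton_iff.1 hg₂H, mul_inv_cancel_right]
    exact hy₁d

/-- An element moving torsion elements of the torus to powers gives eigenvectors of one Weyl matrix. -/
theorem exists_index_eigen (hel : ↥(chevF4.group K)) :
    ∃ j < 1152, ∀ (r : ℕ) [Fact r.Prime], (Fintype.card K : ZMod r) = 1 →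
      ∀ x : ↥(chevF4.group K), (x : GL chevF4.Idx K) ∈ chevF4.diagonalSubgroup K → orderOf x = r →
        ∀ c : ℕ, hel * x * hel⁻¹ = x ^ c →
          ∃ lam : Fin 4 → ZMod r, lam ≠ 0 ∧ wmod r j *ᵥ lam = (c : ZMod r) • lam := by
  obtain ⟨B, hB⟩ := exists_unimodular
  obtain ⟨L, u₁, t₁, u, hL, -, -, -, -, hfacts⟩ := twist_data rootedF4 (hel := (hel : GL chevF4.Idx K)) hel.2
  obtain ⟨j, hj, -, hW⟩ := exists_index rootedF4 hL
  refine ⟨j, hj, fun r _ hK x hxd hox c hc => ?_⟩
  have hp : r.Prime := Fact.out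
  haveI : NeZero r := ⟨hp.ne_zero⟩
  obtain ⟨z, hz⟩ := exists_zmodHom (dvd_natCard_sub_one hK) (NeZero.pos r)
  have hx1 : (x : GL chevF4.Idx K) ^ r = 1 := by
    rw [← SubmonoidClass.coe_pow, ← hox, pow_orderOf_eq_one, OneMemClass.coe_one]
  obtain ⟨lam, hlam⟩ := exists_vec rootedF4 hB hz hxd hx1
  refine ⟨lam, fun h0 => ?_, ?_⟩
  · have h1 : x = 1 := Subtype.ext (by
      rw [← hlam, h0, show iota chevF4 (ZMod r) (0 : Fin 4 → ZMod r) = 0 from map_zero _, ofAdd_zero, map_one,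
        OneMemClass.coe_one])
    rw [h1, orderOf_one] at hox
    exact hp.one_lt.ne hox
  · have e : (hel : GL chevF4.Idx K) * tor z (Multiplicative.ofAdd (iota chevF4 (ZMod r) lam)) =
        tor z (Multiplicative.ofAdd ((c : ZMod r) • iota chevF4 (ZMod r) lam)) * hel := by
      rw [tor_smul, hlam, ← mul_inv_eq_iff_eq_mul, ← SubmonoidClass.coe_pow, ← hc]
      rfl
    have h2 := (hfacts r z hz _ (c : ZMod r) ⟨lam, rfl⟩ e).1
    exact iotaF4_injective (ZMod r) (((hW (ZMod r) lam).trans h2).trans (map_smul _ _ _).symm)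

/-- The eigenvalue three modulo eleven. -/
theorem chkThree : (List.range 1152).all (fun k => force (wget k) fun X =>
    decide (det4 (fun a b => ent X a b - bif a == b then 3 else 0) % 11 ≠ 0)) = true := by decide +kernel

theorem no_eigen_three {k : ℕ} (hk : k < 1152) {e : Fin 4 → ZMod 11} (he0 : e ≠ 0)
    (he : wmod 11 k *ᵥ e = (3 : ZMod 11) • e) : False := by
  haveI : Fact (Nat.Prime 11) := ⟨by norm_num⟩
  have h := chkThree
  simp only [List.all_eq_true, List.mem_range, force_eq, decide_eq_true_eq] at h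
  apply h k hk
  set f : ℕ → ℕ → ℤ := fun a b => ent (wget k) a b - bif (a == b) then 3 else 0 with hf
  set M : Matrix (Fin 4) (Fin 4) ℤ := Matrix.of fun a b => f a.val b.val with hM
  have hmap : M.map (Int.castRingHom (ZMod 11)) = wmod 11 k - (3 : ZMod 11) • 1 := by
    ext a b
    simp only [hM, hf, wmod, wmat, Matrix.map_apply, Matrix.sub_apply, Matrix.smul_apply, Matrix.of_apply,
      Matrix.one_apply, Int.coe_castRingHom, Int.cast_sub, smul_eq_mul]
    by_cases e : a = b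
    · subst e; simp
    · rw [if_neg e, beq_eq_false_iff_ne.2 (fun h => e (Fin.ext h))]; simp
  have h1 : (wmod 11 k - (3 : ZMod 11) • 1).det = 0 :=
    Matrix.exists_mulVec_eq_zero_iff.1 ⟨e, he0, by
      rw [Matrix.sub_mulVec, Matrix.smul_mulVec, Matrix.one_mulVec, he, sub_self]⟩
  have h2 := (Int.castRingHom (ZMod 11)).map_det M
  rw [RingHom.mapMatrix_apply, hmap, h1, four_det M f (fun a b => rfl)] at h2
  exact Int.emod_eq_zero_of_dvd ((ZMod.intCast_zmod_eq_zero_iff_dvd _ _).1 h2)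

end Cfsg.Agent.Lib.F4Sections
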