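import Cfsg.Agent.Lib.F4Sections.Lift
import Cfsg.Agent.Lib.F4Sections.Torus

/-!
The alternating groups of degree eleven and twelve as sections of the groups of type F4.
-/

set_option autoImplicit false

namespace Cfsg.Agent.Lib.F4Sections

open Cfsg.Lie Cfsg.Agent.Lib.Chev Cfsg.Agent.Lib.ChevField Cfsg.Agent.Lib.H59.F4Graph Equiv

universe u

variable {F : Type u} [Field F] [Fintype F] {K : Type} [Field K] [Fintype K]

theorem incl_injective (f : F →+* K) : Function.Injective (incl f) := fun _ _ e =>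
  Subtype.ext (glMap_injective f (congrArg Subtype.val e))

/-- An eleven cycle and an element sending it to its cube. -/
theorem exists_eleven_cycle : ∃ s t : ↥(alternatingGroup (Fin 11)),
    s ≠ 1 ∧ s ^ 11 = 1 ∧ t * s * t⁻¹ = s ^ 3 := by
  refine ⟨⟨swap 0 1 * swap 1 2 * swap 2 3 * swap 3 4 * swap 4 5 * swap 5 6 * swap 6 7 * swap 7 8 * swap 8 9 *
      swap 9 10, Perm.mem_alternatingGroup.2 (by decide +kernel)⟩,
    ⟨(swap 1 3 * swap 3 9 * swap 9 5 * swap 5 4) * (swap 2 6 * swap 6 7 * swap 7 10 * swap 10 8),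
      Perm.mem_alternatingGroup.2 (by decide +kernel)⟩, ?_, ?_, ?_⟩
  all_goals decide +kernel

/-- A five cycle, a seven cycle and an element moving them to their square and cube. -/
theorem exists_five_seven : ∃ a b t : ↥(alternatingGroup (Fin 12)),
    a ≠ 1 ∧ a ^ 5 = 1 ∧ b ≠ 1 ∧ b ^ 7 = 1 ∧ t * a * t⁻¹ = a ^ 2 ∧ t * b * t⁻¹ = b ^ 3 ∧
      b * a * b⁻¹ = a ^ 1 ∧ a * b * a⁻¹ = b ^ 1 := by
  refine ⟨⟨swap 0 1 * swap 1 2 * swap 2 3 * swap 3 4, Perm.mem_alternatingGroup.2 (by decide +kernel)⟩,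
    ⟨swap 5 6 * swap 6 7 * swap 7 8 * swap 8 9 * swap 9 10 * swap 10 11,
      Perm.mem_alternatingGroup.2 (by decide +kernel)⟩,
    ⟨(swap 1 2 * swap 2 4 * swap 4 3) * (swap 6 8 * swap 8 7 * swap 7 11 * swap 11 9 * swap 9 10),
      Perm.mem_alternatingGroup.2 (by decide +kernel)⟩, ?_, ?_, ?_, ?_, ?_, ?_, ?_, ?_⟩
  all_goals decide +kernel

theorem not_altEleven_section (hF : ¬ 11 ∣ Fintype.card F) (H : Subgroup ↥(chevF4.group F))
    (f : H →* ↥(alternatingGroup (Fin 11))) (hf : Function.Surjective f) : False := by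
  classical
  haveI : Fact (Nat.Prime 11) := ⟨by norm_num⟩
  obtain ⟨K, _, _, φ, -, hK, -, -, -⟩ := exists_ext F (d := 10) (by norm_num)
  have hKr : (Fintype.card K : ZMod 11) = 1 := by
    rw [hK, Nat.cast_pow]
    exact ZMod.pow_card_sub_one_eq_one fun h => hF ((ZMod.natCast_eq_zero_iff _ _).1 h)
  obtain ⟨s, t, hs, hs11, hst⟩ := exists_eleven_cycle
  let R := Subgroup.closure ({s, t} : Set ↥(alternatingGroup (Fin 11)))
  let N : Subgroup H := R.comap f
  let f₀ : N →* ↥(alternatingGroup (Fin 11)) := f.comp N.subtype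
  have hsR : s ∈ R := Subgroup.subset_closure (by simp)
  have htR : t ∈ R := Subgroup.subset_closure (by simp)
  have hlift : ∀ y ∈ R, y ∈ f₀.range := fun y hy => by
    obtain ⟨x, rfl⟩ := hf y
    exact ⟨⟨x, hy⟩, rfl⟩
  have hnorm : ∀ y ∈ f₀.range, y * s * y⁻¹ ∈ Subgroup.zpowers s := by
    rintro _ ⟨x, rfl⟩
    refine conj_mem_zpowers_of_closure ?_ (show f₀ x ∈ R from x.2)
    rintro a (rfl | rfl)
    · exact ⟨1, by rw [mul_inv_cancel_right, pow_one]⟩
    · exact ⟨3, hst⟩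
  obtain ⟨S, hS, haS, hfS, hcov⟩ := exists_pgroup_lift f₀ (orderOf_eq_prime hs11 hs) (hlift s hsR) hnorm
  let j : N →* ↥(chevF4.group K) := (incl φ).comp (H.subtype.comp N.subtype)
  have hj : Function.Injective j :=
    (incl_injective φ).comp (H.subtype_injective.comp N.subtype_injective)
  have hab : ∀ a ∈ S, ∀ b ∈ S, a * b = b * a := fun a ha b hb => hj (by
    rw [map_mul, map_mul]
    exact commute_of_pgroup (by norm_num) hKr (S.map j) (hS.map j) _ (Subgroup.mem_map_of_mem _ ha)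
      _ (Subgroup.mem_map_of_mem _ hb))
  obtain ⟨n, hn, hnt⟩ := hcov t (hlift t htR)
  obtain ⟨z, hzS, hzo, hz⟩ := exists_eigen_lift f₀ hS hab hs haS hfS hn (k := 3) (by rw [hnt, hst])
  obtain ⟨g, hg⟩ := exists_conj_diag (by norm_num) hKr (S.map j) (hS.map j)
  obtain ⟨i, hi, hei⟩ := exists_index_eigen (g * j n * g⁻¹)
  obtain ⟨lam, hlam0, hlam⟩ := hei 11 hKr (g * j z * g⁻¹) (hg _ (Subgroup.mem_map_of_mem _ hzS))
    (by rw [← MulAut.conj_apply, MulEquiv.orderOf_eq, orderOf_injective j hj, hzo]) 3 (by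
      rw [conj_pow, show j z ^ 3 = j n * j z * (j n)⁻¹ by rw [← map_inv, ← map_mul, ← map_mul, hz, map_pow]]
      group)
  exact no_eigen_three hi hlam0 (by exact_mod_cast hlam)

theorem pow_five_mod_seven {k i : ℕ} (hk : k ≤ 4) (hi : i ≤ 4) (h : 5 ^ k ≡ 5 ^ i [MOD 7]) : k = i := by
  unfold Nat.ModEq at h
  interval_cases k <;> interval_cases i <;> first | rfl | norm_num at h

set_option maxHeartbeats 1000000 in
theorem not_altTwelve_section (h5 : ¬ 5 ∣ Fintype.card F) (h7 : ¬ 7 ∣ Fintype.card F)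
    (H : Subgroup ↥(chevF4.group F)) (f : H →* ↥(alternatingGroup (Fin 12))) (hf : Function.Surjective f) :
    False := by
  classical
  haveI : Fact (Nat.Prime 5) := ⟨by norm_num⟩
  haveI : Fact (Nat.Prime 7) := ⟨by norm_num⟩
  obtain ⟨K, _, _, φ, -, hK, -, -, -⟩ := exists_ext F (d := 12) (by norm_num)
  have hK5 : (Fintype.card K : ZMod 5) = 1 := by
    rw [hK, Nat.cast_pow, show 12 = (5 - 1) * 3 from rfl, pow_mul,
      ZMod.pow_card_sub_one_eq_one fun h => h5 ((ZMod.natCast_eq_zero_iff _ _).1 h), one_pow]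
  have hK7 : (Fintype.card K : ZMod 7) = 1 := by
    rw [hK, Nat.cast_pow, show 12 = (7 - 1) * 2 from rfl, pow_mul,
      ZMod.pow_card_sub_one_eq_one fun h => h7 ((ZMod.natCast_eq_zero_iff _ _).1 h), one_pow]
  obtain ⟨a, b, t, ha, ha5, hb, hb7, hta, htb, hba, hab'⟩ := exists_five_seven
  let R := Subgroup.closure ({a, b, t} : Set ↥(alternatingGroup (Fin 12)))
  let N : Subgroup H := R.comap f
  let f₀ : N →* ↥(alternatingGroup (Fin 12)) := f.comp N.subtype
  have hlift : ∀ y ∈ R, y ∈ f₀.range := fun y hy => by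
    obtain ⟨x, rfl⟩ := hf y
    exact ⟨⟨x, hy⟩, rfl⟩
  have hna : ∀ y ∈ f₀.range, y * a * y⁻¹ ∈ Subgroup.zpowers a := by
    rintro _ ⟨x, rfl⟩
    refine conj_mem_zpowers_of_closure ?_ (show f₀ x ∈ R from x.2)
    rintro y (rfl | rfl | rfl)
    · exact ⟨1, by rw [mul_inv_cancel_right, pow_one]⟩
    · exact ⟨1, hba⟩
    · exact ⟨2, hta⟩
  have hnb : ∀ y ∈ f₀.range, y * b * y⁻¹ ∈ Subgroup.zpowers b := by
    rintro _ ⟨x, rfl⟩
    refine conj_mem_zpowers_of_closure ?_ (show f₀ x ∈ R from x.2)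
    rintro y (rfl | rfl | rfl)
    · exact ⟨1, hab'⟩
    · exact ⟨1, by rw [mul_inv_cancel_right, pow_one]⟩
    · exact ⟨3, htb⟩
  obtain ⟨S, hS, haS, hfS, hcov⟩ := exists_pgroup_lift f₀ (orderOf_eq_prime ha5 ha)
    (hlift a (Subgroup.subset_closure (by simp))) hna
  set N₁ := Subgroup.normalizer (S : Set N) with hN₁
  let f₁ : N₁ →* ↥(alternatingGroup (Fin 12)) := f₀.comp N₁.subtype
  have hlift₁ : ∀ y ∈ f₀.range, y ∈ f₁.range := fun y hy => by
    obtain ⟨n, hn, rfl⟩ := hcov y hy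
    exact ⟨⟨n, hn⟩, rfl⟩
  have hnb₁ : ∀ y ∈ f₁.range, y * b * y⁻¹ ∈ Subgroup.zpowers b := by
    rintro _ ⟨x, rfl⟩
    exact hnb _ ⟨x.1, rfl⟩
  obtain ⟨T, hT, hbT, hfT, hcov₁⟩ := exists_pgroup_lift f₁ (orderOf_eq_prime hb7 hb)
    (hlift₁ b (hlift b (Subgroup.subset_closure (by simp)))) hnb₁
  obtain ⟨n₁, hn₁, hnt⟩ := hcov₁ t (hlift₁ t (hlift t (Subgroup.subset_closure (by simp))))
  let j : N →* ↥(chevF4.group K) := (incl φ).comp (H.subtype.comp N.subtype)
  have hj : Function.Injective j :=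
    (incl_injective φ).comp (H.subtype_injective.comp N.subtype_injective)
  let j₁ : N₁ →* ↥(chevF4.group K) := j.comp N₁.subtype
  have hj₁ : Function.Injective j₁ := hj.comp N₁.subtype_injective
  have habS : ∀ x ∈ S, ∀ y ∈ S, x * y = y * x := fun x hx y hy => hj (by
    rw [map_mul, map_mul]
    exact commute_of_pgroup (by norm_num) hK5 (S.map j) (hS.map j) _ (Subgroup.mem_map_of_mem _ hx)
      _ (Subgroup.mem_map_of_mem _ hy))
  have habT : ∀ x ∈ T, ∀ y ∈ T, x * y = y * x := fun x hx y hy => hj₁ (by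
    rw [map_mul, map_mul]
    exact commute_of_pgroup (by norm_num) hK7 (T.map j₁) (hT.map j₁) _ (Subgroup.mem_map_of_mem _ hx)
      _ (Subgroup.mem_map_of_mem _ hy))
  obtain ⟨z, hzS, hzo, hz⟩ := exists_eigen_lift f₀ hS habS ha haS hfS n₁.2 (k := 2)
    (by rw [show f₀ n₁.1 = t from hnt, hta])
  obtain ⟨w₁, hwT, hwo, hw⟩ := exists_eigen_lift f₁ hT habT hb hbT hfT hn₁ (k := 3) (by rw [hnt, htb])
  set w : N := (w₁ : N) with hwdef
  have hwo' : orderOf w = 7 := by rw [hwdef, Subgroup.orderOf_coe, hwo]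
  have hwS : ∀ v ∈ S, w * v * w⁻¹ ∈ S := fun v hv => (Subgroup.mem_normalizer_iff.1 w₁.2 v).1 hv
  -- the elements of exponent five of `S`
  let V : Subgroup N :=
    { carrier := {v | v ∈ S ∧ v ^ 5 = 1}
      one_mem' := ⟨S.one_mem, one_pow 5⟩
      mul_mem' := fun {x y} hx hy => ⟨S.mul_mem hx.1 hy.1, by
        rw [(show Commute x y from habS _ hx.1 _ hy.1).mul_pow, hx.2, hy.2, one_mul]⟩
      inv_mem' := fun {x} hx => ⟨S.inv_mem hx.1, by rw [inv_pow, hx.2, inv_one]⟩ }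
  have hwV : ∀ v ∈ V, w * v * w⁻¹ ∈ V := fun v hv => ⟨hwS v hv.1, by
    rw [conj_pow, hv.2, mul_one, mul_inv_cancel]⟩
  have hVp : IsPGroup 5 V := fun v => ⟨1, Subtype.ext (by simpa using v.2.2)⟩
  obtain ⟨k, hk⟩ := IsPGroup.iff_card.1 hVp
  have hk4 : k ≤ 4 := by
    refine (Nat.pow_le_pow_iff_right (show 1 < 5 by norm_num)).1 ?_
    rw [← hk, ← Subgroup.card_map_of_injective hj]
    refine card_exponent_le (by norm_num) hK5 _ ?_
    rintro _ ⟨v, hv, rfl⟩
    rw [← map_pow, hv.2, map_one]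
  have hVC : ∀ v ∈ V, w * v = v * w := by
    let C : Subgroup N := V ⊓ Subgroup.centralizer ({w} : Set N)
    let W := Subgroup.zpowers w
    have hW : IsPGroup 7 W := IsPGroup.of_card (n := 1) (by rw [Nat.card_zpowers, hwo', pow_one])
    have hWV : ∀ (u : W) (v : V), (u : N) * v * (u : N)⁻¹ ∈ V := by
      intro u v
      obtain ⟨i, hi⟩ := Subgroup.mem_zpowers_iff.1 u.2
      rw [← hi]
      have : w ∈ Subgroup.normalizer (V : Set N) := by
        refine Subgroup.mem_normalizer_iff.2 fun x => ⟨fun hx => hwV x hx, fun hx => ?_⟩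
        have h6 : ∀ m : ℕ, w ^ m * (w * x * w⁻¹) * (w ^ m)⁻¹ ∈ V := by
          intro m
          induction m with
          | zero => simpa using hx
          | succ m ih =>
            have := hwV _ ih
            rwa [show w * (w ^ m * (w * x * w⁻¹) * (w ^ m)⁻¹) * w⁻¹ =
              w ^ (m + 1) * (w * x * w⁻¹) * (w ^ (m + 1))⁻¹ by rw [pow_succ']; group] at this
        have h7 := h6 6
        rwa [show w ^ 6 * (w * x * w⁻¹) * (w ^ 6)⁻¹ = w ^ 7 * x * (w ^ 7)⁻¹ by rw [pow_succ w 6]; group,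
          ← hwo', pow_orderOf_eq_one, one_mul, inv_one, mul_one] at h7
      exact (Subgroup.mem_normalizer_iff.1 (zpow_mem this i) v).1 v.2
    letI : MulAction W V :=
      { smul := fun u v => ⟨(u : N) * v * (u : N)⁻¹, hWV u v⟩
        one_smul := fun v => Subtype.ext (show (1 : N) * v * (1 : N)⁻¹ = v by simp)
        mul_smul := fun u u' v => Subtype.ext (show ((u * u' : W) : N) * v * ((u * u' : W) : N)⁻¹ =
          (u : N) * ((u' : N) * v * (u' : N)⁻¹) * (u : N)⁻¹ by rw [Subgroup.coe_mul]; group) }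
    have hmod := hW.card_modEq_card_fixedPoints V
    have hfix : ∀ v : V, v ∈ MulAction.fixedPoints W V ↔ (v : N) ∈ C := by
      intro v
      constructor
      · intro hv
        refine ⟨v.2, Subgroup.mem_centralizer_singleton_iff.2 ?_⟩
        have := congrArg Subtype.val (hv ⟨w, Subgroup.mem_zpowers w⟩)
        exact (mul_inv_eq_iff_eq_mul.1 this).symm
      · intro hv u
        obtain ⟨i, hi⟩ := Subgroup.mem_zpowers_iff.1 u.2
        apply Subtype.ext
        show (u : N) * v * (u : N)⁻¹ = v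
        rw [← hi, mul_inv_eq_iff_eq_mul]
        exact (Commute.zpow_left (Subgroup.mem_centralizer_singleton_iff.1 hv.2).symm i).eq
    rw [Nat.card_congr ((Equiv.subtypeEquivRight hfix).trans
      (Subgroup.subgroupOfEquivOfLe (inf_le_left : C ≤ V)).toEquiv), hk] at hmod
    obtain ⟨i, hi⟩ := IsPGroup.iff_card.1 (hVp.to_le (inf_le_left : C ≤ V))
    have hi4 : i ≤ 4 := le_trans ((Nat.pow_le_pow_iff_right (show 1 < 5 by norm_num)).1
      (hi ▸ hk ▸ Subgroup.card_le_of_le (inf_le_left : C ≤ V))) hk4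
    rw [hi] at hmod
    have hCV : C = V := Subgroup.eq_of_le_of_card_ge inf_le_left (by rw [hk, hi, pow_five_mod_seven hk4 hi4 hmod])
    intro v hv
    have := (show v ∈ C by rw [hCV]; exact hv).2
    exact (Subgroup.mem_centralizer_singleton_iff.1 this).symm
  have hzw : Commute (j z) (j w) := by
    show j z * j w = j w * j z
    rw [← map_mul, ← map_mul, hVC z ⟨hzS, hzo ▸ pow_orderOf_eq_one z⟩]
  obtain ⟨g, hgz, hgw⟩ := exists_conj_diag_pair (by norm_num) (by norm_num) hK5 hK7 (by rw [orderOf_injective j hj, hzo])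
    (by rw [orderOf_injective j hj, hwo']) hzw
  obtain ⟨i, hi, hei⟩ := exists_index_eigen (g * j n₁.1 * g⁻¹)
  obtain ⟨la, hla0, hla⟩ := hei 5 hK5 (g * j z * g⁻¹) hgz
    (by rw [← MulAut.conj_apply, MulEquiv.orderOf_eq, orderOf_injective j hj, hzo]) 2 (by
      rw [conj_pow, show j z ^ 2 = j n₁.1 * j z * (j n₁.1)⁻¹ by rw [← map_inv, ← map_mul, ← map_mul, hz, map_pow]]
      group)
  obtain ⟨lb, hlb0, hlb⟩ := hei 7 hK7 (g * j w * g⁻¹) hgw
    (by rw [← MulAut.conj_apply, MulEquiv.orderOf_eq, orderOf_injective j hj, hwo']) 3 (by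
      rw [conj_pow, show j w ^ 3 = j n₁.1 * j w * (j n₁.1)⁻¹ by
        rw [← map_inv, ← map_mul, ← map_mul, hwdef, ← map_pow, ← SubmonoidClass.coe_pow, ← hw]; rfl]
      group)
  exact not_both (by norm_num) (by norm_num) hi (c := 0) (c' := 1) (by norm_num) (by norm_num) (by norm_num)
    (q := (2 : ZMod 5)) (by norm_num; rfl) hla0 (by exact_mod_cast hla)
    (q' := (3 : ZMod 7)) (by norm_num; rfl) hlb0 (by exact_mod_cast hlb)

end Cfsg.Agent.Lib.F4Sections
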